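import Cfsg.Prelude.Def_LieExceptional
import Cfsg.Agent.Lib.Frobenius.Kernel
import Mathlib

/-!
Zassenhaus groups without a parity condition: kernels of point stabilizers and normal subgroups.
The proofs follow those of the odd case in the character library.
-/

set_option linter.unusedSectionVars false
set_option linter.style.haveILetI false

namespace Cfsg.Agent.Lib.LieExc

open MulAction

universe u v

variable {G : Type u} [Group G] [Finite G] {Ω : Type v} [MulAction G Ω] [Fintype Ω]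

/-- A Zassenhaus group on `h + 1` points with two-point stabilizers of order `e`. -/
structure ZData (G : Type u) [Group G] {Ω : Type v} [MulAction G Ω] [Fintype Ω] (a b : Ω)
    (h e : ℕ) : Prop where
  zass : Cfsg.IsZassenhausGroup G Ω
  hab : a ≠ b
  hh : Fintype.card Ω = h + 1
  he : Nat.card ↥(stabilizer G a ⊓ stabilizer G b : Subgroup G) = e

variable {a b : Ω} {h e : ℕ}

theorem ZData.two_trans (D : ZData G a b h e) {c d c' d' : Ω} (h1 : c ≠ d) (h2 : c' ≠ d') :
    ∃ g : G, g • c = c' ∧ g • d = d' :=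
  MulAction.is_two_pretransitive_iff.mp D.zass.2.1 h1 h2

theorem ZData.three (D : ZData G a b h e) {g : G} {x y z : Ω} (hxy : x ≠ y) (hyz : y ≠ z)
    (hxz : x ≠ z) (hx : g • x = x) (hy : g • y = y) (hz : g • z = z) : g = 1 :=
  D.zass.2.2.1 g x y z hxy hyz hxz hx hy hz

theorem ZData.one_lt_h (D : ZData G a b h e) : 1 < h := by
  classical
  obtain ⟨hF, -, -, ⟨g0, hg0, a0, b0, hab0, hga0, hgb0⟩, -⟩ := D.zass
  haveI := hF
  by_contra hle
  apply hg0
  refine FaithfulSMul.eq_of_smul_eq_smul (α := Ω) fun c => ?_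
  rw [one_smul]
  by_cases hca : c = a0
  · rw [hca, hga0]
  · by_cases hcb : c = b0
    · rw [hcb, hgb0]
    · exfalso
      have hc : ({a0, b0, c} : Finset Ω).card ≤ Fintype.card Ω := Finset.card_le_univ _
      rw [Finset.card_insert_of_notMem (by simp [hab0, Ne.symm hca]),
        Finset.card_pair (Ne.symm hcb), D.hh] at hc
      omega

theorem mem_inf_stabilizer {c d : Ω} {g : G} :
    g ∈ stabilizer G c ⊓ stabilizer G d ↔ g • c = c ∧ g • d = d := by
  simp [Subgroup.mem_inf]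

theorem ZData.exists_ne_one_mem (D : ZData G a b h e) :
    ∃ x ∈ stabilizer G a ⊓ stabilizer G b, x ≠ 1 := by
  obtain ⟨-, -, -, ⟨g0, hg0, a0, b0, hab0, hga0, hgb0⟩, -⟩ := D.zass
  obtain ⟨t, hta, htb⟩ := D.two_trans hab0 D.hab
  refine ⟨t * g0 * t⁻¹, mem_inf_stabilizer.mpr ⟨?_, ?_⟩, fun h => hg0 (by simpa using h)⟩
  · rw [← hta, mul_smul, inv_smul_smul, mul_smul, hga0]
  · rw [← htb, mul_smul, inv_smul_smul, mul_smul, hgb0]

theorem ZData.two_le_e (D : ZData G a b h e) : 2 ≤ e := by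
  obtain ⟨x, hx, hx1⟩ := D.exists_ne_one_mem
  rw [← D.he]
  exact Nat.succ_le_of_lt (Finite.one_lt_card_iff_nontrivial.mpr
    ⟨⟨⟨x, hx⟩, 1, fun h => hx1 (congrArg Subtype.val h)⟩⟩)

theorem ZData.card_pair (D : ZData G a b h e) {c d : Ω} (hcd : c ≠ d) :
    Nat.card ↥(stabilizer G c ⊓ stabilizer G d : Subgroup G) = e := by
  obtain ⟨t, hta, htb⟩ := D.two_trans D.hab hcd
  rw [← D.he]
  refine Nat.card_congr ((MulAut.conj t⁻¹).toEquiv.subtypeEquiv fun g => ?_)
  rw [mem_inf_stabilizer, mem_inf_stabilizer]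
  simp [MulAut.conj_apply, mul_smul, inv_smul_eq_iff, hta, htb]

theorem ZData.card_stabilizer (D : ZData G a b h e) (c : Ω) :
    Nat.card (stabilizer G c) = h * e := by
  classical
  obtain ⟨d, hd⟩ : ∃ d, d ≠ c := by
    by_cases hc : a = c
    · exact ⟨b, hc ▸ D.hab.symm⟩
    · exact ⟨a, hc⟩
  have key : Nat.card (orbit (stabilizer G c) d) *
      Nat.card (stabilizer (stabilizer G c) d) = Nat.card (stabilizer G c) := by
    rw [← Nat.card_prod]
    exact Nat.card_congr (orbitProdStabilizerEquivGroup (stabilizer G c) d)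
  have h1 : orbit (stabilizer G c) d = {x | x ≠ c} := by
    ext x
    constructor
    · rintro ⟨⟨g, hg⟩, rfl⟩ hxc
      exact hd (MulAction.injective g (hxc.trans hg.symm))
    · intro hx
      obtain ⟨g, hgc, hgd⟩ := D.two_trans (c := c) (d := d) (c' := c) (d' := x) hd.symm
        (Ne.symm hx)
      exact ⟨⟨g, hgc⟩, hgd⟩
  have h2 : Nat.card (stabilizer (stabilizer G c) d) = e := by
    rw [← D.card_pair hd.symm]
    exact Nat.card_congr
      { toFun := fun g => ⟨(g.1 : G), mem_inf_stabilizer.mpr ⟨g.1.2, g.2⟩⟩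
        invFun := fun g => ⟨⟨g.1, (mem_inf_stabilizer.mp g.2).1⟩, (mem_inf_stabilizer.mp g.2).2⟩
        left_inv := fun _ => rfl
        right_inv := fun _ => rfl }
  rw [← key, h2, h1, Nat.card_eq_fintype_card, Fintype.card_ofFinset]
  simp [Finset.filter_ne', Finset.card_erase_of_mem, D.hh]

theorem ZData.isPretransitive (D : ZData G a b h e) : IsPretransitive G Ω := by
  refine ⟨fun x y => ?_⟩
  rcases eq_or_ne x y with rfl | hxy
  · exact ⟨1, one_smul _ _⟩
  · obtain ⟨g, hg, -⟩ := D.two_trans hxy hxy.symm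
    exact ⟨g, hg⟩

theorem ZData.exists_kernel (D : ZData G a b h e) :
    ∃ H : Subgroup G, H ≤ stabilizer G a ∧ Nat.card H = h ∧
      ∀ u ∈ H, u ≠ 1 → ∀ c : Ω, u • c = c → c = a := by
  set B := stabilizer G a with hB
  set E := (stabilizer G a ⊓ stabilizer G b : Subgroup G) with hE
  have hEB : E ≤ B := inf_le_left
  have hcardE : Nat.card (E.subgroupOf B) = e :=
    (Nat.card_congr (Subgroup.subgroupOfEquivOfLe hEB).toEquiv).trans D.he
  have hh1 := D.one_lt_h
  have he3 := D.two_le_e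
  have hidx : (E.subgroupOf B).index = h := by
    have h1 := (E.subgroupOf B).index_mul_card
    rw [hcardE, D.card_stabilizer a] at h1
    exact Nat.eq_of_mul_eq_mul_right (show 0 < e by omega) h1
  have hF : Cfsg.IsFrobeniusComplement (E.subgroupOf B) := by
    refine Cfsg.Agent.Lib.Frobenius.isFrobeniusComplement_iff.mpr ⟨fun h0 => ?_, fun h0 => ?_, ?_⟩
    · rw [h0, Subgroup.card_bot] at hcardE; omega
    · rw [h0, Subgroup.index_top] at hidx; omega
    · intro g hg x hx hgx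
      by_contra hx1
      have hx1' : (x : G) ≠ 1 := fun h => hx1 (Subtype.ext h)
      have hga : (g : G) • a = a := g.2
      have hxab := mem_inf_stabilizer.mp (Subgroup.mem_subgroupOf.mp hx)
      have hgb := (mem_inf_stabilizer.mp (Subgroup.mem_subgroupOf.mp hgx)).2
      simp only [Subgroup.coe_mul, Subgroup.coe_inv, mul_smul, inv_smul_eq_iff] at hgb
      refine hg (Subgroup.mem_subgroupOf.mpr (mem_inf_stabilizer.mpr ⟨hga, ?_⟩))
      by_contra hne
      refine hx1' (D.three D.hab (Ne.symm hne) ?_ hxab.1 hxab.2 hgb)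
      exact fun h' => D.hab (MulAction.injective (g : G) (hga.trans h'))
  obtain ⟨K, -, hK, -, -, -, -, hKc⟩ := Cfsg.Agent.Lib.Frobenius.exists_frobeniusKernel hF
  refine ⟨K.map B.subtype, Subgroup.map_subtype_le K, ?_, ?_⟩
  · rw [Subgroup.card_subtype, hKc, hidx]
  · rintro u ⟨x, hx, rfl⟩ hu1 c hc
    by_contra hca
    have hx' : x ∈ Cfsg.frobeniusKernel (E.subgroupOf B) := hK ▸ hx
    rcases Cfsg.Agent.Lib.Frobenius.mem_frobeniusKernel_iff.mp hx' with rfl | hx'
    · exact hu1 rfl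
    obtain ⟨t, hta, htb⟩ := D.two_trans D.hab (Ne.symm hca)
    refine hx' ⟨t, hta⟩ (Subgroup.mem_subgroupOf.mpr (mem_inf_stabilizer.mpr ⟨?_, ?_⟩))
    · simp only [Subgroup.coe_mul, Subgroup.coe_inv, mul_smul, inv_smul_eq_iff, hta]
      exact x.2
    · simp only [Subgroup.coe_mul, Subgroup.coe_inv, mul_smul, inv_smul_eq_iff, htb]
      exact hc

/-- The data together with the Frobenius kernel of a point stabilizer. -/
structure ZDataKer (G : Type u) [Group G] {Ω : Type v} [MulAction G Ω] [Fintype Ω] (a b : Ω)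
    (h e : ℕ) (H : Subgroup G) : Prop extends ZData G a b h e where
  hHa : H ≤ stabilizer G a
  hHcard : Nat.card H = h
  hHfix : ∀ u ∈ H, u ≠ 1 → ∀ c : Ω, u • c = c → c = a

variable {H : Subgroup G}

theorem ZDataKer.mem_iff (K : ZDataKer G a b h e H) (g : G) :
    g ∈ H ↔ g = 1 ∨ (g • a = a ∧ ∀ c, g • c = c → c = a) := by
  classical
  refine ⟨fun hg => or_iff_not_imp_left.mpr fun h1 => ⟨K.hHa hg, K.hHfix g hg h1⟩, ?_⟩
  rintro (rfl | hg)
  · exact H.one_mem
  letI := Fintype.ofFinite G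
  set Ga : Finset G := Finset.univ.filter fun g => g • a = a with hGa
  set O : Finset Ω := Finset.univ.erase a with hO
  have hOc : O.card = h := by
    rw [hO, Finset.card_erase_of_mem (Finset.mem_univ _), Finset.card_univ, K.hh,
      Nat.add_sub_cancel]
  have hGac : Ga.card = h * e := by
    rw [← K.card_stabilizer a, Nat.card_eq_fintype_card, hGa, ← Fintype.card_subtype]
    rfl
  set F : Finset G := Ga.filter fun g => ∀ c, g • c = c → c = a with hF
  set NF : Finset G := Ga.filter fun g => ¬ ∀ c, g • c = c → c = a with hNF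
  have hsum : ∑ g ∈ Ga, (O.filter fun c => g • c = c).card = h * e := by
    have := Finset.sum_card_bipartiteAbove_eq_sum_card_bipartiteBelow
      (s := Ga) (t := O) (fun g c => g • c = c)
    simp only [Finset.bipartiteAbove, Finset.bipartiteBelow] at this
    rw [this]
    have h1 : ∀ c ∈ O, (Ga.filter fun g => g • c = c).card = e := by
      intro c hc
      rw [← K.card_pair (Finset.mem_erase.mp hc).1.symm, Nat.card_eq_fintype_card, hGa,
        Finset.filter_filter, ← Fintype.card_subtype]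
      exact Fintype.card_congr (Equiv.subtypeEquivRight fun g => mem_inf_stabilizer.symm)
    rw [Finset.sum_congr rfl h1, Finset.sum_const, hOc, smul_eq_mul]
  have hone : (1 : G) ∈ NF := by
    simp only [hNF, hGa, Finset.mem_filter, Finset.mem_univ, one_smul, true_and, not_forall]
    exact ⟨b, trivial, K.hab.symm⟩
  have hNFc : h + (NF.erase 1).card ≤ h * e := by
    rw [← hsum]
    refine le_trans ?_ (Finset.sum_le_sum_of_subset (Finset.filter_subset
      (fun g => ¬ ∀ c, g • c = c → c = a) Ga))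
    rw [← hNF, ← Finset.add_sum_erase _ _ hone]
    refine add_le_add (le_of_eq ?_) ?_
    · simp [one_smul, hOc]
    · rw [Finset.card_eq_sum_ones]
      refine Finset.sum_le_sum fun g hg => ?_
      have h1 := (Finset.mem_filter.mp (Finset.mem_erase.mp hg).2).2
      push Not at h1
      obtain ⟨c, hc, hca⟩ := h1
      exact Finset.card_pos.mpr ⟨c, Finset.mem_filter.mpr
        ⟨Finset.mem_erase.mpr ⟨hca, Finset.mem_univ _⟩, hc⟩⟩
  have hNFge : h * e ≤ h + (NF.erase 1).card := by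
    have h2 : ∑ g ∈ Ga, (O.filter fun c => g • c = c).card =
        ∑ g ∈ NF, (O.filter fun c => g • c = c).card := by
      refine (Finset.sum_subset (Finset.filter_subset _ _) fun g hg hgN => ?_).symm
      simp only [hNF, Finset.mem_filter, hg, true_and, not_not] at hgN
      rw [Finset.card_eq_zero, Finset.filter_eq_empty_iff]
      exact fun c hc h' => (Finset.mem_erase.mp hc).1 (hgN c h')
    rw [← hsum, h2, ← Finset.add_sum_erase _ _ hone]
    refine add_le_add (le_of_eq (by simp [one_smul, hOc])) ?_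
    rw [Finset.card_eq_sum_ones]
    refine Finset.sum_le_sum fun g hg => ?_
    have hga : g • a = a :=
      (Finset.mem_filter.mp (Finset.mem_filter.mp (Finset.mem_erase.mp hg).2).1).2
    refine Finset.card_le_one.mpr fun c hc d hd => by_contra fun hcd => ?_
    simp only [hO, Finset.mem_filter, Finset.mem_erase] at hc hd
    exact (Finset.mem_erase.mp hg).1
      (K.three hcd (hd.1.1) hc.1.1 hc.2 hd.2 hga)
  have hsplit : F.card + NF.card = h * e := by
    rw [hF, hNF, Finset.card_filter_add_card_filter_not, hGac]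
  have hNFer := Finset.card_erase_add_one hone
  have hh1 := K.one_lt_h
  set HS : Finset G := (Finset.univ.filter fun g => g ∈ H).erase 1 with hHS
  have hsub : HS ⊆ F := fun g hg => by
    simp only [hHS, Finset.mem_erase, Finset.mem_filter, Finset.mem_univ, true_and] at hg
    simp only [hF, hGa, Finset.mem_filter, Finset.mem_univ, true_and]
    exact ⟨K.hHa hg.2, K.hHfix g hg.2 hg.1⟩
  have hHSc : HS.card + 1 = h := by
    rw [hHS, Finset.card_erase_add_one (by simp), ← K.hHcard, Nat.card_eq_fintype_card,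
      Fintype.card_subtype]
  have heq := Finset.eq_of_subset_of_card_le hsub (by omega)
  have : g ∈ HS := by rw [heq]; simpa [hF, hGa] using hg
  exact (Finset.mem_filter.mp (Finset.mem_erase.mp this).2).2

theorem ZDataKer.conj_mem (K : ZDataKer G a b h e H) {g : G} (hg : g • a = a) {u : G} (hu : u ∈ H) :
    g * u * g⁻¹ ∈ H := by
  rw [K.mem_iff] at hu ⊢
  rcases hu with rfl | ⟨hua, hu⟩
  · left; simp
  · right
    refine ⟨by rw [mul_smul, mul_smul, inv_smul_eq_iff.mpr hg.symm, hua, hg], fun c hc => ?_⟩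
    rw [mul_smul, mul_smul, ← eq_inv_smul_iff] at hc
    rw [← smul_inv_smul g c, hu _ hc, hg]

theorem ZDataKer.disjoint_pair (K : ZDataKer G a b h e H) {x : G} (hx : x ∈ H) (hxb : x • b = b) :
    x = 1 := by
  by_contra h1
  exact K.hab (K.hHfix x hx h1 b hxb).symm

theorem ZDataKer.centralizer_le (K : ZDataKer G a b h e H) {t : G} (ht : t ∈ H) (ht1 : t ≠ 1) {g : G}
    (hg : Commute g t) : g ∈ H := by
  have hta : t • a = a := K.hHa ht
  have hga : g • a = a := by
    refine K.hHfix t ht ht1 _ ?_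
    rw [← mul_smul, ← hg.eq, mul_smul, hta]
  refine (K.mem_iff g).mpr (or_iff_not_imp_left.mpr fun hg1 => ⟨hga, fun c hc => ?_⟩)
  by_contra hca
  have htc : g • t • c = t • c := by rw [← mul_smul, hg.eq, mul_smul, hc]
  refine hg1 (K.three (Ne.symm hca) ?_ ?_ hga hc htc)
  · exact fun h' => hca (K.hHfix t ht ht1 c h'.symm)
  · exact fun h' => hca (MulAction.injective t (h'.symm.trans hta.symm))

theorem ZData.normal_isPretransitive (D : ZData G a b h e) {M : Subgroup G} (hMn : M.Normal)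
    (hM : M ≠ ⊥) : IsPretransitive M Ω := by
  haveI := D.zass.1
  haveI := D.isPretransitive
  obtain ⟨m, hm, hma⟩ : ∃ m ∈ M, m • a ≠ a := by
    by_contra hall
    push Not at hall
    refine hM ((Subgroup.eq_bot_iff_forall M).mpr fun m hm => ?_)
    refine FaithfulSMul.eq_of_smul_eq_smul (α := Ω) fun c => ?_
    obtain ⟨g, rfl⟩ := MulAction.exists_smul_eq G a c
    have h1 := hall _ (hMn.conj_mem m hm g⁻¹)
    rw [inv_inv, mul_smul, mul_smul, inv_smul_eq_iff] at h1
    rw [h1, one_smul]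
  have key : ∀ c, ∃ x : M, x • a = c := by
    intro c
    rcases eq_or_ne c a with rfl | hc
    · exact ⟨1, one_smul _ _⟩
    obtain ⟨g, hga, hgm⟩ := D.two_trans (c := a) (d := m • a) (c' := a) (d' := c) hma.symm hc.symm
    refine ⟨⟨g * m * g⁻¹, hMn.conj_mem m hm g⟩, ?_⟩
    show (g * m * g⁻¹) • a = c
    rw [mul_smul, mul_smul, show g⁻¹ • a = a from inv_smul_eq_iff.mpr hga.symm, hgm]
  refine ⟨fun x y => ?_⟩
  obtain ⟨p, hp⟩ := key x
  obtain ⟨q, hq⟩ := key y
  exact ⟨q * p⁻¹, by rw [← hp, mul_smul, inv_smul_smul, hq]⟩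

theorem ZData.normal_inf_pair (D : ZData G a b h e) {M : Subgroup G} (hMn : M.Normal)
    (hM : M ≠ ⊥) : ∃ y ∈ M, y ∈ stabilizer G a ⊓ stabilizer G b ∧ y ≠ 1 := by
  by_contra hno
  push Not at hno
  haveI := D.isPretransitive
  haveI := D.normal_isPretransitive hMn hM
  have hfix : ∀ m ∈ M, ∀ c d : Ω, c ≠ d → m • c = c → m • d = d → m = 1 := by
    intro m hm c d hcd hc hd
    obtain ⟨g, hga, hgb⟩ := D.two_trans D.hab hcd
    have h1 := hno _ (hMn.conj_mem m hm g⁻¹) (mem_inf_stabilizer.mpr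
      ⟨by rw [inv_inv, mul_smul, mul_smul, hga, hc, inv_smul_eq_iff, hga],
       by rw [inv_inv, mul_smul, mul_smul, hgb, hd, inv_smul_eq_iff, hgb]⟩)
    rw [inv_inv] at h1
    calc m = g * (g⁻¹ * m * g) * g⁻¹ := by group
      _ = 1 := by rw [h1, mul_one, mul_inv_cancel]
  obtain ⟨c, hc⟩ := D.zass.2.2.2.2 M hMn inferInstance
  have hFc : Cfsg.IsFrobeniusComplement (stabilizer M c) := by
    refine Cfsg.Agent.Lib.Frobenius.isFrobeniusComplement_iff.mpr ⟨hc, fun htop => ?_, ?_⟩
    · obtain ⟨d, hd⟩ : ∃ d, d ≠ c := by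
        by_cases h' : a = c
        · exact ⟨b, h' ▸ D.hab.symm⟩
        · exact ⟨a, h'⟩
      obtain ⟨x, hx⟩ := MulAction.exists_smul_eq M c d
      exact hd (hx ▸ mem_stabilizer_iff.mp (htop ▸ Subgroup.mem_top x))
    · intro g hg x hx hgx
      by_contra hx1
      rw [mem_stabilizer_iff] at hx hgx hg
      simp only [mul_smul, inv_smul_eq_iff] at hgx
      exact hx1 (Subtype.ext (hfix x x.2 (g • c) c hg hgx hx))
  obtain ⟨K, -, hK, -, -, hKne, -, -⟩ := Cfsg.Agent.Lib.Frobenius.exists_frobeniusKernel hFc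
  have hmemK : ∀ x : M, x ∈ K ↔ x = 1 ∨ ∀ d : Ω, (x : G) • d ≠ d := by
    intro x
    rw [← SetLike.mem_coe, hK, Cfsg.Agent.Lib.Frobenius.mem_frobeniusKernel_iff]
    refine or_congr_right ⟨fun h1 d hd => ?_, fun h1 g hg => ?_⟩
    · obtain ⟨g, rfl⟩ := MulAction.exists_smul_eq M c d
      refine h1 g ?_
      rw [mem_stabilizer_iff, mul_smul, mul_smul, inv_smul_eq_iff]
      exact hd
    · rw [mem_stabilizer_iff, mul_smul, mul_smul, inv_smul_eq_iff] at hg
      exact h1 _ hg
  have hmemK' : ∀ z, z ∈ K.map M.subtype → z ∈ M ∧ (z = 1 ∨ ∀ d : Ω, z • d ≠ d) := by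
    rintro z ⟨x, hx, rfl⟩
    refine ⟨x.2, ?_⟩
    rcases (hmemK x).mp hx with rfl | h1
    · exact Or.inl rfl
    · exact Or.inr h1
  have hK'n : (K.map M.subtype).Normal := by
    refine ⟨fun z hz g => ?_⟩
    obtain ⟨hzM, hz⟩ := hmemK' z hz
    refine ⟨⟨g * z * g⁻¹, hMn.conj_mem z hzM g⟩, (hmemK _).mpr ?_, rfl⟩
    rcases hz with rfl | hz
    · exact Or.inl (Subtype.ext (by simp))
    · refine Or.inr fun d hd => hz (g⁻¹ • d) ?_
      rw [eq_inv_smul_iff, ← mul_smul, ← mul_smul]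
      exact hd
  have hK'ne : K.map M.subtype ≠ ⊥ := fun h0 =>
    hKne ((Subgroup.map_eq_bot_iff_of_injective K M.subtype_injective).mp h0)
  obtain ⟨d, hd⟩ := D.zass.2.2.2.2 _ hK'n (D.normal_isPretransitive hK'n hK'ne)
  refine hd ((Subgroup.eq_bot_iff_forall _).mpr fun z hz => Subtype.ext ?_)
  rcases (hmemK' z z.2).2 with h1 | h1
  · exact h1
  · exact absurd hz (h1 d)

theorem ZDataKer.le_normal (K : ZDataKer G a b h e H) {M : Subgroup G} (hMn : M.Normal) (hM : M ≠ ⊥) :
    H ≤ M := by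
  obtain ⟨y, hyM, hyE, hy1⟩ := K.toZData.normal_inf_pair hMn hM
  let f : H → ↥(H ⊓ M : Subgroup G) := fun u => ⟨(u : G)⁻¹ * (y * u * y⁻¹),
    Subgroup.mem_inf.mpr ⟨mul_mem (inv_mem u.2) (K.conj_mem (mem_inf_stabilizer.mp hyE).1 u.2), by
      rw [show (u : G)⁻¹ * (y * u * y⁻¹) = ((u : G)⁻¹ * y * u) * y⁻¹ by group]
      exact mul_mem (by simpa using hMn.conj_mem y hyM (u : G)⁻¹) (inv_mem hyM)⟩⟩
  have hf : Function.Injective f := by
    intro u v huv
    have h1 : (u : G)⁻¹ * y * u = (v : G)⁻¹ * y * v := by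
      have h2 := congrArg (fun z : ↥(H ⊓ M : Subgroup G) => (z : G) * y) huv
      simpa [f, mul_assoc] using h2
    by_contra hne
    have hw1 : (v : G) * (u : G)⁻¹ ≠ 1 := fun h' => hne (Subtype.ext (mul_inv_eq_one.mp h').symm)
    have hcomm : Commute y ((v : G) * (u : G)⁻¹) := by
      show y * ((v : G) * (u : G)⁻¹) = ((v : G) * (u : G)⁻¹) * y
      calc y * ((v : G) * (u : G)⁻¹) = (v : G) * ((v : G)⁻¹ * y * v) * (u : G)⁻¹ := by group
        _ = (v : G) * ((u : G)⁻¹ * y * u) * (u : G)⁻¹ := by rw [h1]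
        _ = ((v : G) * (u : G)⁻¹) * y := by group
    exact hy1 (K.disjoint_pair
      (K.centralizer_le (mul_mem v.2 (inv_mem u.2)) hw1 hcomm) (mem_inf_stabilizer.mp hyE).2)
  have h1 : (H ⊓ M : Subgroup G) = H :=
    Subgroup.eq_of_le_of_card_ge inf_le_left (Nat.card_le_card_of_injective f hf)
  exact h1 ▸ inf_le_right

theorem ZDataKer.exists_kernel_smul (K : ZDataKer G a b h e H) {c d : Ω} (hc : c ≠ a) (hd : d ≠ a) :
    ∃ u ∈ H, u • c = d := by
  classical
  haveI := Fintype.ofFinite H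
  let O : Finset Ω := Finset.univ.image fun u : H => (u : G) • c
  have hsub : O ⊆ Finset.univ.erase a := by
    intro x hx
    obtain ⟨u, -, rfl⟩ := Finset.mem_image.mp hx
    refine Finset.mem_erase.mpr ⟨fun h' => hc ?_, Finset.mem_univ _⟩
    exact MulAction.injective (u : G) (h'.trans (show (u : G) • a = a from K.hHa u.2).symm)
  have hinj : Function.Injective fun u : H => (u : G) • c := by
    intro u v huv
    by_contra hne
    refine hc (K.hHfix ((v : G)⁻¹ * u) (mul_mem (inv_mem v.2) u.2)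
      (fun h' => hne (Subtype.ext (inv_mul_eq_one.mp h').symm)) c ?_)
    rw [mul_smul, inv_smul_eq_iff]
    exact huv
  have hO : O = Finset.univ.erase a := by
    refine Finset.eq_of_subset_of_card_le hsub (le_of_eq ?_)
    rw [Finset.card_erase_of_mem (Finset.mem_univ _), Finset.card_univ, K.hh,
      Finset.card_image_of_injective _ hinj, Finset.card_univ, ← Nat.card_eq_fintype_card,
      K.hHcard, Nat.add_sub_cancel]
  obtain ⟨u, -, hu⟩ := Finset.mem_image.mp (hO.symm ▸ Finset.mem_erase.mpr ⟨hd, Finset.mem_univ d⟩)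
  exact ⟨u, u.2, hu⟩

theorem ZDataKer.no_regular (K : ZDataKer G a b h e H) {N : Subgroup G} (hNn : N.Normal) (hN : N ≠ ⊥)
    (hHN : H ≤ N) {M : Subgroup G} (hMN : M ≤ N) (hMn : ∀ n ∈ N, ∀ m ∈ M, n * m * n⁻¹ ∈ M)
    (hMt : ∀ c : Ω, ∃ m ∈ M, m • a = c) (hMf : ∀ m ∈ M, ∀ c : Ω, m • c = c → m = 1) : False := by
  haveI := K.zass.1
  haveI := K.isPretransitive
  have huniq : ∀ m ∈ M, ∀ m' ∈ M, ∀ c : Ω, m • c = m' • c → m = m' := by
    intro m hm m' hm' c hmm
    exact (inv_mul_eq_one.mp (hMf _ (mul_mem (inv_mem hm') hm) c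
      (by rw [mul_smul, hmm, inv_smul_smul]))).symm
  have hconj : ∀ m ∈ M, m ≠ 1 → ∀ m' ∈ M, m' ≠ 1 → ∃ u ∈ H, u * m * u⁻¹ = m' := by
    intro m hm hm1 m' hm' hm'1
    obtain ⟨u, hu, hum⟩ := K.exists_kernel_smul (c := m • a) (d := m' • a)
      (fun h' => hm1 (hMf m hm a h')) (fun h' => hm'1 (hMf m' hm' a h'))
    refine ⟨u, hu, huniq _ (hMn u (hHN hu) m hm) _ hm' a ?_⟩
    rw [mul_smul, mul_smul,
      show u⁻¹ • a = a from inv_smul_eq_iff.mpr (show u • a = a from K.hHa hu).symm, hum]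
  obtain ⟨y, hyN, hyE, hy1⟩ := K.toZData.normal_inf_pair hNn hN
  obtain ⟨hya, hyb⟩ := mem_inf_stabilizer.mp hyE
  obtain ⟨t, ht, hta⟩ := hMt b
  have ht1 : t ≠ 1 := fun h' => K.hab (by rw [← hta, h', one_smul])
  have hyt : y * t * y⁻¹ = t := by
    refine huniq _ (hMn y hyN t ht) _ ht a ?_
    rw [mul_smul, mul_smul, show y⁻¹ • a = a from inv_smul_eq_iff.mpr hya.symm, hta, hyb]
  have ht2 : t * t = 1 := by
    by_contra htt
    refine hy1 (K.three K.hab (y := b) (z := (t * t) • a) ?_ ?_ hya hyb ?_)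
    · intro h'
      exact ht1 (mul_eq_left.mp (huniq _ (mul_mem ht ht) _ ht a (by rw [← h', hta])))
    · intro h'
      exact htt (hMf _ (mul_mem ht ht) a h'.symm)
    · rw [← mul_smul, show y * (t * t) = (y * t * y⁻¹) * (y * t * y⁻¹) * y by group, hyt, mul_smul,
        hya]
  have hinv : ∀ m ∈ M, m * m = 1 := by
    intro m hm
    by_cases hm1 : m = 1
    · rw [hm1, one_mul]
    obtain ⟨u, -, rfl⟩ := hconj t ht ht1 m hm hm1
    rw [show u * t * u⁻¹ * (u * t * u⁻¹) = u * (t * t) * u⁻¹ by group, ht2, mul_one, mul_inv_cancel]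
  have hcommM : ∀ m ∈ M, ∀ m' ∈ M, m * m' = m' * m := by
    intro m hm m' hm'
    have h1 := hinv _ (mul_mem hm hm')
    calc m * m' = (m * m')⁻¹ := eq_inv_of_mul_eq_one_left h1
      _ = m'⁻¹ * m⁻¹ := mul_inv_rev _ _
      _ = m' * m := by
        rw [inv_eq_of_mul_eq_one_left (hinv m hm), inv_eq_of_mul_eq_one_left (hinv m' hm')]
  have hcent : ∀ g : G, (∀ m ∈ M, g * m = m * g) → g ∈ M := by
    intro g hg
    obtain ⟨m, hm, hma⟩ := hMt (g • a)
    have h1 : m⁻¹ * g = 1 := by
      refine FaithfulSMul.eq_of_smul_eq_smul (α := Ω) fun c => ?_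
      obtain ⟨m', hm', rfl⟩ := hMt c
      rw [one_smul, ← mul_smul, mul_assoc, hg m' hm', ← mul_assoc,
        hcommM m⁻¹ (inv_mem hm) m' hm', mul_assoc, mul_smul, mul_smul, ← hma, inv_smul_smul]
    rw [← inv_mul_eq_one.mp h1]
    exact hm
  have hMG : M.Normal := by
    refine ⟨fun m hm g => ?_⟩
    set M' := M.map (MulAut.conj g).toMonoidHom with hM'
    have hM'mem : ∀ m ∈ M, g * m * g⁻¹ ∈ M' := fun m hm => Subgroup.mem_map_of_mem _ hm
    have hM'n : ∀ n ∈ N, ∀ x ∈ M', n * x * n⁻¹ ∈ M' := by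
      rintro n hn _ ⟨x, hx, rfl⟩
      have h1 := hMn _ (by simpa using hNn.conj_mem n hn g⁻¹ : g⁻¹ * n * g ∈ N) x hx
      have h2 := hM'mem _ h1
      rw [show g * (g⁻¹ * n * g * x * (g⁻¹ * n * g)⁻¹) * g⁻¹ = n * (g * x * g⁻¹) * n⁻¹ by group]
        at h2
      exact h2
    have hM'N : M' ≤ N := by
      rintro _ ⟨x, hx, rfl⟩
      exact hNn.conj_mem x (hMN hx) g
    obtain ⟨z, hzM, hz', hz1⟩ : ∃ z ∈ M, z ∈ M' ∧ z ≠ 1 := by
      by_contra hno
      push Not at hno
      have hle : ∀ x ∈ M', x ∈ M := fun x hx => hcent x fun m hm => by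
        have h1 : x * m * x⁻¹ * m⁻¹ = 1 := hno _
          (mul_mem (hMn x (hM'N hx) m hm) (inv_mem hm)) (by
            rw [mul_assoc x m, mul_assoc x]
            exact mul_mem hx (by
              have := hM'n m (hMN hm) x⁻¹ (inv_mem hx)
              rwa [mul_assoc] at this ⊢))
        calc x * m = x * m * x⁻¹ * m⁻¹ * (m * x) := by group
          _ = m * x := by rw [h1, one_mul]
      have h2 := hle _ (hM'mem t ht)
      have h3 := hno _ h2 (hM'mem t ht)
      exact ht1 (conj_eq_one_iff.mp h3)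
    have hle : M ≤ M' := by
      intro x hx
      by_cases hx1 : x = 1
      · rw [hx1]; exact M'.one_mem
      obtain ⟨u, hu, rfl⟩ := hconj z hzM hz1 x hx hx1
      exact hM'n u (hHN hu) z hz'
    have heq : M = M' := by
      refine Subgroup.eq_of_le_of_card_ge hle (le_of_eq ?_)
      rw [hM', Subgroup.card_map_of_injective (MulAut.conj g).injective]
    rw [heq]
    exact hM'mem m hm
  have htr : IsPretransitive M Ω := by
    refine ⟨fun x y => ?_⟩
    obtain ⟨p, hp, rfl⟩ := hMt x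
    obtain ⟨q, hq, rfl⟩ := hMt y
    refine ⟨⟨q * p⁻¹, mul_mem hq (inv_mem hp)⟩, ?_⟩
    show (q * p⁻¹) • p • a = q • a
    rw [← mul_smul, inv_mul_cancel_right]
  obtain ⟨d, hd⟩ := K.zass.2.2.2.2 M hMG htr
  exact hd ((Subgroup.eq_bot_iff_forall _).mpr fun z hz => Subtype.ext (hMf z z.2 d hz))

end Cfsg.Agent.Lib.LieExc
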