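import Cfsg.Agent.Lib.Solvable.FrobeniusAux
import Cfsg.Agent.Lib.Frobenius.UniqueSubgroup
import Mathlib

/-!
A doubly transitive group in which no non-identity element fixes three points and which has a
regular normal subgroup has degree `2 ^ p` with `p` prime, once some element fixes two points.
-/

set_option autoImplicit false
set_option linter.unusedSectionVars false
set_option linter.style.haveILetI false

namespace Cfsg.Agent.Lib.LieExc

open MulAction

universe u v

section Field

variable {G : Type u} [Group G] {N : Subgroup G} [N.Normal]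
  [cm : IsMulCommutative N]

open scoped IsMulCommutative

/-- Conjugation on a commutative normal subgroup as an additive endomorphism. -/
def conjEnd : G →* AddMonoid.End (Additive N) where
  toFun g := MonoidHom.toAdditive (MulAut.conjNormal g : MulAut N).toMonoidHom
  map_one' := by
    refine AddMonoidHom.ext fun v => ?_
    show Additive.ofMul (MulAut.conjNormal (1 : G) (Additive.toMul v)) = v
    simp
  map_mul' g h := by
    refine AddMonoidHom.ext fun v => ?_
    show Additive.ofMul (MulAut.conjNormal (g * h) (Additive.toMul v)) =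
      Additive.ofMul (MulAut.conjNormal g (MulAut.conjNormal h (Additive.toMul v)))
    simp

theorem conjEnd_apply (g : G) (x : N) :
    ((Additive.toMul (conjEnd (N := N) g (Additive.ofMul x)) : N) : G) = g * x * g⁻¹ := rfl

variable [Finite G]

/-- The field generated by a commutative group of automorphisms transitive on the non-identity
elements, and the Galois action of an element normalising it. -/
theorem card_eq_two_pow_prime (F : Subgroup G) (hF : ∀ x ∈ F, ∀ y ∈ F, x * y = y * x) {t : G}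
    (ht : t ∈ N) (ht1 : t ≠ 1) (htr : ∀ m ∈ N, m ≠ 1 → ∃ f ∈ F, f * t * f⁻¹ = m)
    (ht2 : t * t = 1)
    (g : G) (hgF : ∀ f ∈ F, g * f * g⁻¹ ∈ F) (hgF' : ∀ f ∈ F, g⁻¹ * f * g ∈ F)
    (hr : (orderOf g).Prime) (hgt : g * t = t * g)
    (hfix : ∀ m ∈ N, m ≠ 1 → g * m = m * g → m = t)
    (hne : ∃ m ∈ N, g * m ≠ m * g) : ∃ p : ℕ, p.Prime ∧ Nat.card N = 2 ^ p := by
  classical
  set S : Set (AddMonoid.End (Additive N)) := conjEnd '' (F : Set G) with hS
  have hcommS : ∀ x ∈ S, ∀ y ∈ S, x * y = y * x := by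
    rintro _ ⟨x, hx, rfl⟩ _ ⟨y, hy, rfl⟩
    rw [← map_mul, ← map_mul, hF x hx y hy]
  set R := Subring.closure S with hR
  letI : CommRing R := Subring.closureCommRingOfComm hcommS
  have hmemF : ∀ f ∈ F, conjEnd (N := N) f ∈ R := fun f hf => Subring.subset_closure ⟨f, hf, rfl⟩
  let v : Additive N := Additive.ofMul ⟨t, ht⟩
  have hv0 : v ≠ 0 := fun e => ht1 (congrArg (fun z : Additive N => ((Additive.toMul z : N) : G)) e)
  have hsur : ∀ w : Additive N, w ≠ 0 → ∃ f ∈ F, conjEnd f v = w := by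
    intro w hw
    obtain ⟨f, hf, e⟩ := htr (Additive.toMul w : N) (Subtype.prop _) (fun e => hw (by
      exact Additive.toMul.injective (Subtype.ext e)))
    exact ⟨f, hf, Additive.toMul.injective (Subtype.ext e)⟩
  have hRcomm : ∀ r ∈ R, ∀ f ∈ F, r * conjEnd f = conjEnd f * r := by
    intro r hr f hf
    have := mul_comm (⟨r, hr⟩ : R) ⟨_, hmemF f hf⟩
    exact congrArg Subtype.val this
  have hinj : ∀ r : R, (r : AddMonoid.End (Additive N)) v = 0 → r = 0 := by
    intro r hr
    refine Subtype.ext (AddMonoidHom.ext fun w => ?_)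
    show (r : AddMonoid.End (Additive N)) w = 0
    by_cases hw : w = 0
    · rw [hw, map_zero]
    obtain ⟨f, hf, rfl⟩ := hsur w hw
    refine (congrFun (congrArg DFunLike.coe (hRcomm r r.2 f hf)) v).trans ?_
    show conjEnd f ((r : AddMonoid.End (Additive N)) v) = 0
    rw [hr, map_zero]
  have hinj' : ∀ r s : R, (r : AddMonoid.End (Additive N)) v = (s : AddMonoid.End (Additive N)) v →
      r = s := fun r s e => sub_eq_zero.1 (hinj _ (by
    show (r : AddMonoid.End (Additive N)) v - (s : AddMonoid.End (Additive N)) v = 0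
    rw [e, sub_self]))
  have hfield : IsField R := by
    refine ⟨⟨0, 1, fun e => hv0 ?_⟩, mul_comm, fun {r} hr => ?_⟩
    · exact (congrArg (fun z : R => (z : AddMonoid.End (Additive N)) v) e).symm
    · obtain ⟨f, hf, e⟩ := hsur _ (fun e => hr (hinj r e))
      have e' : r = ⟨conjEnd f, hmemF f hf⟩ := hinj' _ _ e.symm
      refine ⟨⟨conjEnd f⁻¹, hmemF _ (inv_mem hf)⟩, ?_⟩
      rw [e']
      refine Subtype.ext ?_
      show conjEnd f * conjEnd f⁻¹ = 1
      rw [← map_mul, mul_inv_cancel, map_one]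
  have hcard : Nat.card R = Nat.card N := by
    refine Nat.card_congr (Equiv.ofBijective
      (fun r : R => Additive.toMul ((r : AddMonoid.End (Additive N)) v))
      ⟨fun r s e => hinj' r s (Additive.toMul.injective e), fun w => ?_⟩)
    by_cases hw : Additive.ofMul w = 0
    · refine ⟨0, ?_⟩
      have e0 : ((0 : R) : AddMonoid.End (Additive N)) v = Additive.ofMul w := by
        rw [hw]; rfl
      exact congrArg Additive.toMul e0
    · obtain ⟨f, hf, e⟩ := hsur _ hw
      exact ⟨⟨_, hmemF f hf⟩, congrArg Additive.toMul e⟩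
  -- the semilinear action
  have hconj : ∀ x : G, (∀ f ∈ F, x * f * x⁻¹ ∈ F) → ∀ r ∈ R,
      conjEnd x * r * conjEnd x⁻¹ ∈ R := by
    intro x hx r hr
    have hxx : conjEnd (N := N) x⁻¹ * conjEnd x = 1 := by
      rw [← map_mul, inv_mul_cancel, map_one]
    induction hr using Subring.closure_induction with
    | mem z hz =>
      obtain ⟨f, hf, rfl⟩ := hz
      rw [← map_mul, ← map_mul]
      exact hmemF _ (hx f hf)
    | zero => simp
    | one => rw [mul_one, ← map_mul, mul_inv_cancel, map_one]; exact one_mem R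
    | add a b _ _ ha hb => rw [mul_add, add_mul]; exact add_mem ha hb
    | neg a _ ha =>
      have e : conjEnd x * -a * conjEnd x⁻¹ = -(conjEnd x * a * conjEnd x⁻¹) :=
        AddMonoidHom.ext fun w => map_neg (conjEnd x) _
      rw [e]; exact neg_mem ha
    | mul a b _ _ ha hb =>
      have e : conjEnd x * (a * b) * conjEnd x⁻¹ =
          (conjEnd x * a * conjEnd x⁻¹) * (conjEnd x * b * conjEnd x⁻¹) := by
        simp only [mul_assoc]
        rw [← mul_assoc (conjEnd x⁻¹) (conjEnd x), hxx, one_mul]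
      rw [e]
      exact mul_mem ha hb
  have hg' : ∀ f ∈ F, g⁻¹ * f * g⁻¹⁻¹ ∈ F := fun f hf => by rw [inv_inv]; exact hgF' f hf
  have hc1 : conjEnd (N := N) g⁻¹ * conjEnd (N := N) g = 1 := by rw [← map_mul, inv_mul_cancel, map_one]
  have hc2 : conjEnd (N := N) g * conjEnd (N := N) g⁻¹ = 1 := by rw [← map_mul, mul_inv_cancel, map_one]
  let ψ : RingAut R :=
    { toFun := fun r => ⟨conjEnd (N := N) g * (r : AddMonoid.End (Additive N)) * conjEnd (N := N) g⁻¹, hconj g hgF r r.2⟩
      invFun := fun r => ⟨conjEnd (N := N) g⁻¹ * (r : AddMonoid.End (Additive N)) * conjEnd (N := N) g, by simpa using hconj g⁻¹ hg' r r.2⟩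
      left_inv := fun r => Subtype.ext (by
        show conjEnd (N := N) g⁻¹ * (conjEnd (N := N) g * (r : AddMonoid.End (Additive N)) * conjEnd (N := N) g⁻¹) * conjEnd (N := N) g = r
        simp only [mul_assoc]
        rw [hc1, mul_one, ← mul_assoc, hc1, one_mul])
      right_inv := fun r => Subtype.ext (by
        show conjEnd (N := N) g * (conjEnd (N := N) g⁻¹ * (r : AddMonoid.End (Additive N)) * conjEnd (N := N) g) * conjEnd (N := N) g⁻¹ = r
        simp only [mul_assoc]
        rw [hc2, mul_one, ← mul_assoc, hc2, one_mul])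
      map_mul' := fun r s => Subtype.ext (by
        show conjEnd (N := N) g * ((r : AddMonoid.End (Additive N)) * (s : AddMonoid.End (Additive N))) * conjEnd (N := N) g⁻¹ =
          (conjEnd (N := N) g * (r : AddMonoid.End (Additive N)) * conjEnd (N := N) g⁻¹) *
            (conjEnd (N := N) g * (s : AddMonoid.End (Additive N)) * conjEnd (N := N) g⁻¹)
        simp only [mul_assoc]
        rw [← mul_assoc (conjEnd (N := N) g⁻¹) (conjEnd (N := N) g), hc1, one_mul])
      map_add' := fun r s => Subtype.ext (by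
        show conjEnd (N := N) g * ((r : AddMonoid.End (Additive N)) + (s : AddMonoid.End (Additive N))) * conjEnd (N := N) g⁻¹ =
          (conjEnd (N := N) g * (r : AddMonoid.End (Additive N)) * conjEnd (N := N) g⁻¹) +
            (conjEnd (N := N) g * (s : AddMonoid.End (Additive N)) * conjEnd (N := N) g⁻¹)
        rw [mul_add, add_mul]) }
  have hpow : ∀ (n : ℕ) (r : R), ((ψ ^ n) r : AddMonoid.End (Additive N)) =
      conjEnd (N := N) (g ^ n) * (r : AddMonoid.End (Additive N)) * conjEnd (N := N) (g⁻¹ ^ n) := by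
    intro n
    induction n with
    | zero => intro r; simp
    | succ n ih =>
      intro r
      rw [pow_succ' ψ, pow_succ' g, pow_succ (g⁻¹), map_mul, map_mul]
      show conjEnd (N := N) g * ((ψ ^ n) r : AddMonoid.End (Additive N)) * conjEnd (N := N) g⁻¹ = _
      rw [ih]
      simp only [mul_assoc]
  have hψr : ψ ^ orderOf g = 1 := RingEquiv.ext fun r => Subtype.ext (by
    rw [hpow, inv_pow, pow_orderOf_eq_one, inv_one, map_one, one_mul, mul_one]
    rfl)
  have hv : conjEnd (N := N) g v = v := by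
    refine Additive.toMul.injective (Subtype.ext ?_)
    show g * t * g⁻¹ = t
    rw [hgt, mul_inv_cancel_right]
  have hact : ∀ r : R, conjEnd (N := N) g ((r : AddMonoid.End (Additive N)) v) =
      (ψ r : AddMonoid.End (Additive N)) v := by
    intro r
    show _ = conjEnd (N := N) g ((r : AddMonoid.End (Additive N)) (conjEnd (N := N) g⁻¹ v))
    congr 2
    conv_rhs => rw [← hv]
    exact (congrFun (congrArg DFunLike.coe hc1) v).symm
  have hψ1 : ψ ≠ 1 := by
    intro e
    obtain ⟨m, hm, hm'⟩ := hne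
    apply hm'
    by_cases hm1 : m = 1
    · rw [hm1, mul_one, one_mul]
    obtain ⟨f, hf, hfm⟩ := htr m hm hm1
    have h1 := hact ⟨_, hmemF f hf⟩
    rw [e] at h1
    have h2 := congrArg (fun z : Additive N => ((Additive.toMul z : N) : G)) h1
    change g * (f * t * f⁻¹) * g⁻¹ = f * t * f⁻¹ at h2
    rw [hfm] at h2
    exact mul_inv_eq_iff_eq_mul.1 h2
  letI := hfield.toField
  haveI : Finite R := Nat.finite_of_card_ne_zero (by rw [hcard]; exact Nat.card_pos.ne')
  have hord : orderOf ψ = orderOf g :=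
    (hr.eq_one_or_self_of_dvd _ (orderOf_dvd_of_pow_eq_one hψr)).resolve_left
      (by rwa [orderOf_eq_one_iff])
  haveI hfinP : Finite (Subgroup.zpowers ψ) := Nat.finite_of_card_ne_zero (by
    rw [Nat.card_zpowers, hord]; exact hr.ne_zero)
  haveI : Fintype (Subgroup.zpowers ψ) := Fintype.ofFinite _
  have hrank := FixedPoints.finrank_eq_card (Subgroup.zpowers ψ) R
  rw [Fintype.card_eq_nat_card, Nat.card_zpowers, hord] at hrank
  haveI : Fintype R := Fintype.ofFinite R
  set L := FixedPoints.subfield (Subgroup.zpowers ψ) R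
  haveI : Fintype L := Fintype.ofFinite L
  have hL : Fintype.card L = 2 := by
    rw [Fintype.card_eq_nat_card, show Nat.card L = Nat.card (L : Set R) from rfl,
      Nat.card_coe_set_eq]
    have e : (L : Set R) = {0, 1} := by
      ext x
      constructor
      · intro hx
        have h1 : ψ x = x := hx ⟨ψ, Subgroup.mem_zpowers ψ⟩
        have h2 := hact x
        rw [h1] at h2
        set w := (x : AddMonoid.End (Additive N)) v with hw
        by_cases hw0 : w = 0
        · exact Or.inl (hinj x hw0)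
        refine Or.inr (hinj' x 1 ?_)
        show w = v
        refine Additive.toMul.injective (Subtype.ext ?_)
        refine hfix _ (Subtype.prop _) (fun e => hw0 (Additive.toMul.injective (Subtype.ext e))) ?_
        have h3 := congrArg (fun z : Additive N => ((Additive.toMul z : N) : G)) h2
        change g * _ * g⁻¹ = _ at h3
        exact mul_inv_eq_iff_eq_mul.1 h3
      · rintro (rfl | rfl)
        · exact zero_mem L
        · exact one_mem L
    rw [e, Set.ncard_pair zero_ne_one]
  refine ⟨orderOf g, hr, ?_⟩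
  rw [← hcard, ← Fintype.card_eq_nat_card, Module.card_eq_pow_finrank (K := L), hL, hrank]

end Field

variable {G : Type u} [Group G] {Ω : Type v} [MulAction G Ω] [Fintype Ω]

set_option maxHeartbeats 1000000 in
theorem regular_normal_degree [FaithfulSMul G Ω]
    (h2 : MulAction.IsMultiplyPretransitive G Ω 2)
    (h3 : ∀ g : G, ∀ a b c : Ω, a ≠ b → b ≠ c → a ≠ c → g • a = a → g • b = b → g • c = c → g = 1)
    (hfix : ∃ g : G, g ≠ 1 ∧ ∃ a b : Ω, a ≠ b ∧ g • a = a ∧ g • b = b)
    (N : Subgroup G) [N.Normal] (hNt : MulAction.IsPretransitive N Ω)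
    (hNr : ∀ a : Ω, MulAction.stabilizer N a = ⊥) :
    ∃ p : ℕ, p.Prime ∧ Fintype.card Ω = 2 ^ p := by
  classical
  haveI : Finite G := Finite.of_injective (MulAction.toPerm : G → Equiv.Perm Ω)
    MulAction.toPerm_injective
  have htwo : ∀ {c d c' d' : Ω}, c ≠ d → c' ≠ d' → ∃ g : G, g • c = c' ∧ g • d = d' :=
    MulAction.is_two_pretransitive_iff.mp h2
  obtain ⟨y, hy1, a, b, hab, hya, hyb⟩ := hfix
  have hfree : ∀ m ∈ N, ∀ c : Ω, m • c = c → m = 1 := by
    intro m hm c hc
    have h1 : (⟨m, hm⟩ : N) ∈ stabilizer N c := hc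
    rw [hNr, Subgroup.mem_bot] at h1
    exact congrArg Subtype.val h1
  have hreg : ∀ m ∈ N, ∀ m' ∈ N, m • a = m' • a → m = m' := fun m hm m' hm' e =>
    (inv_mul_eq_one.mp (hfree _ (mul_mem (inv_mem hm') hm) a
      (by rw [mul_smul, e, inv_smul_smul]))).symm
  have hex : ∀ c : Ω, ∃ m ∈ N, m • a = c := fun c => by
    obtain ⟨m, hm⟩ := MulAction.exists_smul_eq N a c
    exact ⟨m, m.2, hm⟩
  have hequiv : ∀ h : G, h • a = a → ∀ m : G, h • (m • a) = (h * m * h⁻¹) • a := fun h hh m => by
    rw [mul_smul, mul_smul, inv_smul_eq_iff.mpr hh.symm]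
  have hcommfix : ∀ h : G, h • a = a → ∀ m : G, h * m = m * h → h • (m • a) = m • a :=
    fun h hh m e => by rw [← mul_smul, e, mul_smul, hh]
  have hthree : ∀ h : G, h • a = a → h ≠ 1 → ∀ m ∈ N, ∀ m' ∈ N, m ≠ 1 → m' ≠ 1 →
      h * m = m * h → h * m' = m' * h → m = m' := by
    intro h hh hh1 m hm m' hm' hm1 hm1' e e'
    by_contra hne
    refine hh1 (h3 h a (m • a) (m' • a) ?_ ?_ ?_ hh (hcommfix h hh m e) (hcommfix h hh m' e'))
    · exact fun e => hm1 (hfree m hm a e.symm)
    · exact fun e => hne (hreg m hm m' hm' e)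
    · exact fun e => hm1' (hfree m' hm' a e.symm)
  obtain ⟨t, ht, htb⟩ := hex b
  have ht1 : t ≠ 1 := fun e => hab (by rw [← htb, e, one_smul])
  have hyt : y * t = t * y := by
    refine mul_inv_eq_iff_eq_mul.1 (hreg _ (‹N.Normal›.conj_mem t ht y) _ ht ?_)
    rw [← hequiv y hya, htb, hyb]
  have hconj : ∀ m ∈ N, m ≠ 1 → ∃ h : G, h • a = a ∧ h * t * h⁻¹ = m := by
    intro m hm hm1
    obtain ⟨h, ha, hb⟩ := htwo (c := a) (d := t • a) (c' := a) (d' := m • a)
      (fun e => ht1 (hfree t ht a e.symm)) (fun e => hm1 (hfree m hm a e.symm))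
    exact ⟨h, ha, hreg _ (‹N.Normal›.conj_mem t ht h) _ hm (by rw [← hequiv h ha, hb])⟩
  have ht2 : t * t = 1 := by
    by_contra htt
    have e := hthree y hya hy1 t ht (t * t) (mul_mem ht ht) ht1 htt hyt
      (by rw [← mul_assoc, hyt, mul_assoc, hyt, mul_assoc])
    exact ht1 (mul_eq_left.mp e.symm)
  have hinv : ∀ m ∈ N, m * m = 1 := by
    intro m hm
    by_cases hm1 : m = 1
    · rw [hm1, one_mul]
    obtain ⟨h, -, rfl⟩ := hconj m hm hm1
    rw [show h * t * h⁻¹ * (h * t * h⁻¹) = h * (t * t) * h⁻¹ by group, ht2]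
    group
  have hcomm : ∀ m ∈ N, ∀ m' ∈ N, m * m' = m' * m := by
    intro m hm m' hm'
    calc m * m' = (m * m')⁻¹ := eq_inv_of_mul_eq_one_left (hinv _ (mul_mem hm hm'))
      _ = m'⁻¹ * m⁻¹ := mul_inv_rev _ _
      _ = m' * m := by
        rw [inv_eq_of_mul_eq_one_left (hinv m hm), inv_eq_of_mul_eq_one_left (hinv m' hm')]
  haveI : IsMulCommutative N := ⟨⟨fun x z => Subtype.ext (hcomm x x.2 z z.2)⟩⟩
  have hcardN : Nat.card N = Fintype.card Ω := by
    rw [← Nat.card_eq_fintype_card]
    refine Nat.card_congr (Equiv.ofBijective (fun m : N => (m : G) • a)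
      ⟨fun m m' e => Subtype.ext (hreg m m.2 m' m'.2 e), fun c => ?_⟩)
    obtain ⟨m, hm, e⟩ := hex c
    exact ⟨⟨m, hm⟩, e⟩
  obtain ⟨k, hk⟩ : ∃ k, Nat.card N = 2 ^ k := by
    haveI : Fact (Nat.Prime 2) := ⟨Nat.prime_two⟩
    refine IsPGroup.iff_card.mp fun m => ⟨1, ?_⟩
    rw [pow_one, pow_two]
    exact Subtype.ext (hinv m m.2)
  have hn3 : 3 ≤ Fintype.card Ω := by
    by_contra hlt
    refine hy1 (FaithfulSMul.eq_of_smul_eq_smul (α := Ω) fun c => ?_)
    rw [one_smul]
    by_cases hca : c = a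
    · rw [hca, hya]
    by_cases hcb : c = b
    · rw [hcb, hyb]
    exfalso
    have hc : ({a, b, c} : Finset Ω).card ≤ Fintype.card Ω := Finset.card_le_univ _
    rw [Finset.card_insert_of_notMem (by simp [hab, Ne.symm hca]),
      Finset.card_pair (Ne.symm hcb)] at hc
    omega
  -- point stabilisers of even order force degree four
  by_cases heven : 2 ∣ Nat.card (stabilizer G a)
  · haveI : Fact (Nat.Prime 2) := ⟨Nat.prime_two⟩
    obtain ⟨⟨s, hs⟩, hso⟩ := exists_prime_orderOf_dvd_card' 2 heven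
    rw [← Subgroup.orderOf_coe] at hso
    have hs1 : s ≠ 1 := fun e => by
      have : orderOf s = 2 := hso
      rw [e, orderOf_one] at this; omega
    have hs2 : s * s = 1 := by rw [← pow_two, ← hso]; exact pow_orderOf_eq_one _
    have hsinv : s⁻¹ = s := inv_eq_of_mul_eq_one_right hs2
    let C : Subgroup N := (Subgroup.centralizer ({s} : Set G)).subgroupOf N
    let δ : N →* N :=
      { toFun := fun m => m * (⟨s * (m : G) * s⁻¹, ‹N.Normal›.conj_mem m m.2 s⟩ : N)
        map_one' := Subtype.ext (by simp)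
        map_mul' := fun m m' => Subtype.ext (by
          show (m : G) * m' * (s * (m * m') * s⁻¹) = m * (s * m * s⁻¹) * (m' * (s * m' * s⁻¹))
          have e1 : (m' : G) * (s * m * s⁻¹) = s * m * s⁻¹ * m' :=
            hcomm _ m'.2 _ (‹N.Normal›.conj_mem m m.2 s)
          calc (m : G) * m' * (s * (m * m') * s⁻¹)
              = m * (m' * (s * m * s⁻¹)) * (s * m' * s⁻¹) := by group
            _ = _ := by rw [e1]; group) }
    have hC2 : Nat.card C ≤ 2 := by
      rcases subsingleton_or_nontrivial C with h | h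
      · exact le_trans (Finite.card_le_one_iff_subsingleton.2 h) one_le_two
      obtain ⟨c, hc⟩ := exists_ne (1 : C)
      have hall : ∀ x : C, x = 1 ∨ x = c := by
        intro x
        by_contra hx
        push Not at hx
        refine hx.2 (Subtype.ext (Subtype.ext (hthree s hs hs1 _ x.1.2 _ c.1.2 ?_ ?_ ?_ ?_)))
        · exact fun e => hx.1 (Subtype.ext (Subtype.ext e))
        · exact fun e => hc (Subtype.ext (Subtype.ext e))
        · exact ((Subgroup.mem_centralizer_iff.1 (Subgroup.mem_subgroupOf.1 x.2)) s rfl)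
        · exact ((Subgroup.mem_centralizer_iff.1 (Subgroup.mem_subgroupOf.1 c.2)) s rfl)
      calc Nat.card C ≤ Nat.card (Fin 2) := Nat.card_le_card_of_surjective
            (fun i : Fin 2 => if i = 0 then 1 else c) (fun x => by
              rcases hall x with rfl | rfl
              · exact ⟨0, by simp⟩
              · exact ⟨1, by simp⟩)
        _ = 2 := Nat.card_fin 2
    have hker : δ.ker ≤ C := by
      intro m hm
      have h1 : (m : G) * (s * m * s⁻¹) = 1 := congrArg Subtype.val (MonoidHom.mem_ker.1 hm)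
      refine Subgroup.mem_subgroupOf.2 (Subgroup.mem_centralizer_iff.2 fun z hz => ?_)
      rw [Set.mem_singleton_iff.1 hz]
      rw [mul_eq_one_iff_eq_inv] at h1
      have h2 : (m : G)⁻¹ = m := inv_eq_of_mul_eq_one_right (hinv m m.2)
      exact mul_inv_eq_iff_eq_mul.1 (inv_injective (h2.trans h1).symm)
    have hrange : δ.range ≤ C := by
      rintro _ ⟨m, rfl⟩
      refine Subgroup.mem_subgroupOf.2 (Subgroup.mem_centralizer_iff.2 fun z hz => ?_)
      rw [Set.mem_singleton_iff.1 hz]
      show s * ((m : G) * (s * m * s⁻¹)) = (m : G) * (s * m * s⁻¹) * s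
      have e0 : s * (m : G) * s * m = m * (s * m * s) := by
        have h := hcomm _ m.2 _ (‹N.Normal›.conj_mem m m.2 s)
        rw [hsinv] at h
        exact h.symm
      rw [hsinv]
      calc s * ((m : G) * (s * m * s)) = (s * (m : G) * s * m) * s := by group
        _ = _ := by rw [e0]
    have h4 : Nat.card N ≤ 4 := by
      rw [← δ.ker.card_mul_index, Subgroup.index_ker]
      calc Nat.card δ.ker * Nat.card δ.range ≤ 2 * 2 :=
            Nat.mul_le_mul ((Subgroup.card_le_of_le hker).trans hC2)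
              ((Subgroup.card_le_of_le hrange).trans hC2)
        _ = 4 := rfl
    refine ⟨2, Nat.prime_two, ?_⟩
    rw [← hcardN, hk] at hn3 ⊢
    rw [hk] at h4
    have h1 : 2 ≤ k := by
      by_contra h
      rcases (show k = 0 ∨ k = 1 by omega) with rfl | rfl <;> norm_num at hn3
    have h2 : k ≤ 2 := (Nat.pow_le_pow_iff_right one_lt_two).1 (h4.trans (by norm_num))
    rw [show k = 2 by omega]
  -- the odd case
  set B := stabilizer G a with hB
  let K : Subgroup B := (Subgroup.centralizer ({t} : Set G)).subgroupOf B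
  have hK : ∀ x : B, x ∈ K ↔ (x : G) * t = t * x := by
    intro x
    rw [Subgroup.mem_subgroupOf, Subgroup.mem_centralizer_singleton_iff]
  have hF : Cfsg.IsFrobeniusComplement K := by
    refine Cfsg.Agent.Lib.Frobenius.isFrobeniusComplement_iff.mpr ⟨fun h0 => ?_, fun h0 => ?_, ?_⟩
    · have : (⟨y, hya⟩ : B) ∈ K := (hK _).2 hyt
      rw [h0, Subgroup.mem_bot] at this
      exact hy1 (congrArg Subtype.val this)
    · obtain ⟨c, hca, hcb⟩ : ∃ c : Ω, c ≠ a ∧ c ≠ b := by
        by_contra hcon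
        push Not at hcon
        have hle : Fintype.card Ω ≤ ({a, b} : Finset Ω).card :=
          Finset.card_le_card (s := (Finset.univ : Finset Ω)) (fun c _ => by
            by_cases hc : c = a
            · simp [hc]
            · simp [hcon c hc])
        rw [Finset.card_pair hab] at hle
        omega
      obtain ⟨m, hm, rfl⟩ := hex c
      obtain ⟨h, hha, hhm⟩ := hconj m hm (fun e => hca (by rw [e, one_smul]))
      have hc' : (⟨h, hha⟩ : B) ∈ K := h0 ▸ Subgroup.mem_top _
      refine hcb ?_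
      rw [← hhm, ← htb, show h * t * h⁻¹ = t from mul_inv_eq_iff_eq_mul.2 ((hK _).1 hc')]
    · intro g hg x hx hgx
      by_contra hx1
      have hx1' : (x : G) ≠ 1 := fun e => hx1 (Subtype.ext e)
      have hgt : (g : G) * t * (g : G)⁻¹ ≠ t := fun e => hg ((hK g).2 (mul_inv_eq_iff_eq_mul.1 e))
      have e2 : ((g : G)⁻¹ * x * g) * t = t * ((g : G)⁻¹ * x * g) := (hK _).1 hgx
      refine hgt (hthree x x.2 hx1' _ (‹N.Normal›.conj_mem t ht g) _ ht
        (fun e => ht1 (conj_eq_one_iff.1 e)) ht1 ?_ ((hK x).1 hx))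
      calc (x : G) * ((g : G) * t * (g : G)⁻¹) = g * (((g : G)⁻¹ * x * g) * t) * (g : G)⁻¹ := by group
        _ = _ := by rw [e2]; group
  obtain ⟨F, hFn, -, hdisj, hsup, -, -, hnil, -⟩ :=
    Cfsg.Agent.Lib.Solvable.FrobeniusAux.exists_nilpotent_kernel hF
  haveI := hFn
  haveI := hnil
  have hnorm : ∀ f : B, f ∈ F → ∀ h : B, h⁻¹ * f * h ∈ F := fun f hf h => by
    simpa using hFn.conj_mem f hf h⁻¹
  have hFfpf : ∀ f : B, f ∈ F → f ≠ 1 → ∀ m ∈ N, (f : G) * m = m * f → m = 1 := by
    intro f hf hf1 m hm e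
    by_contra hm1
    obtain ⟨h, hha, rfl⟩ := hconj m hm hm1
    have hh : ((⟨h, hha⟩ : B)⁻¹ * f * ⟨h, hha⟩) ∈ F ⊓ K := by
      refine Subgroup.mem_inf.2 ⟨hnorm f hf _, (hK _).2 ?_⟩
      show h⁻¹ * (f : G) * h * t = t * (h⁻¹ * f * h)
      calc h⁻¹ * (f : G) * h * t = h⁻¹ * ((f : G) * (h * t * h⁻¹)) * h := by group
        _ = _ := by rw [e]; group
    rw [hdisj, Subgroup.mem_bot] at hh
    exact hf1 (conj_eq_one_iff.1 (show (⟨h, hha⟩ : B)⁻¹ * f * (⟨h, hha⟩ : B)⁻¹⁻¹ = 1 by
      rw [inv_inv]; exact hh))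
  have hFtr : ∀ m ∈ N, m ≠ 1 → ∃ f ∈ F.map B.subtype, f * t * f⁻¹ = m := by
    intro m hm hm1
    obtain ⟨h, hha, rfl⟩ := hconj m hm hm1
    obtain ⟨f, hf, z, hz, e⟩ := Subgroup.mem_sup_of_normal_left.1
      (hsup ▸ Subgroup.mem_top (⟨h, hha⟩ : B))
    refine ⟨(f : G), ⟨f, hf, rfl⟩, ?_⟩
    have e' : (f : G) * z = h := congrArg Subtype.val e
    have ez : (z : G) * t * (z : G)⁻¹ = t := mul_inv_eq_iff_eq_mul.2 ((hK z).1 hz)
    rw [← e']
    calc (f : G) * t * (f : G)⁻¹ = f * ((z : G) * t * (z : G)⁻¹) * (f : G)⁻¹ := by rw [ez]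
      _ = _ := by group
  let φ : F →* MulAut N := (MulAut.conjNormal.comp B.subtype).comp F.subtype
  have hφ : ∀ f : F, f ≠ 1 → ∀ m : N, φ f m = m → m = 1 := by
    intro f hf m e
    refine Subtype.ext (hFfpf f f.2 (fun e => hf (Subtype.ext e)) m m.2 ?_)
    exact mul_inv_eq_iff_eq_mul.1 (congrArg Subtype.val e)
  have hNnt : Nontrivial N := ⟨⟨t, ht⟩, 1, fun e => ht1 (congrArg Subtype.val e)⟩
  haveI : IsZGroup F := ⟨fun p hp P => by
    haveI := Fact.mk hp
    refine (Cfsg.Agent.Lib.Frobenius.isCyclic_or_quaternion_of_fixedPointFree φ hφ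
      (P : Subgroup F) P.2).resolve_right ?_
    rintro ⟨-, m, ⟨eq⟩⟩
    have h1 : Nat.card (P : Subgroup F) ∣ Nat.card B :=
      (Subgroup.card_subgroup_dvd_card _).trans (Subgroup.card_subgroup_dvd_card F)
    rw [Nat.card_congr eq.toEquiv, Nat.card_eq_fintype_card, QuaternionGroup.card] at h1
    exact heven ((Dvd.dvd.mul_right (by norm_num) _).trans h1)⟩
  have hFc : IsCyclic F := inferInstance
  have hFcomm : ∀ x ∈ F.map B.subtype, ∀ z ∈ F.map B.subtype, x * z = z * x := by
    rintro _ ⟨x, hx, rfl⟩ _ ⟨z, hz, rfl⟩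
    exact congrArg (fun w : F => ((w : B) : G))
      ((IsCyclic.commGroup (α := F)).mul_comm ⟨x, hx⟩ ⟨z, hz⟩)
  obtain ⟨r, hr, hrd⟩ := Nat.exists_prime_and_dvd (n := Nat.card K)
    (fun h => hF.1 (Subgroup.card_eq_one.mp h))
  haveI := Fact.mk hr
  obtain ⟨g, hg⟩ := exists_prime_orderOf_dvd_card' r hrd
  have hgo : orderOf ((g : B) : G) = r := by rw [Subgroup.orderOf_coe, Subgroup.orderOf_coe, hg]
  have hg1 : ((g : B) : G) ≠ 1 := fun e => by
    rw [e, orderOf_one] at hgo; exact hr.ne_one hgo.symm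
  obtain ⟨p, hp, hpc⟩ := card_eq_two_pow_prime (F.map B.subtype) hFcomm ht ht1 hFtr ht2
    ((g : B) : G)
    (by rintro _ ⟨f, hf, rfl⟩; exact ⟨_, hFn.conj_mem f hf g, rfl⟩)
    (by rintro _ ⟨f, hf, rfl⟩; exact ⟨_, hnorm f hf g, rfl⟩)
    (hgo ▸ hr) ((hK g).1 g.2)
    (fun m hm hm1 e => hthree _ (g : B).2 hg1 m hm t ht hm1 ht1 e ((hK g).1 g.2)) (by
      by_contra hall
      push Not at hall
      obtain ⟨c, hca, hcb⟩ : ∃ c : Ω, c ≠ a ∧ c ≠ b := by
        by_contra hcon
        push Not at hcon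
        have hle : Fintype.card Ω ≤ ({a, b} : Finset Ω).card :=
          Finset.card_le_card (s := (Finset.univ : Finset Ω)) (fun c _ => by
            by_cases hc : c = a
            · simp [hc]
            · simp [hcon c hc])
        rw [Finset.card_pair hab] at hle
        omega
      obtain ⟨m, hm, rfl⟩ := hex c
      refine hcb ?_
      rw [← htb, hthree _ (g : B).2 hg1 m hm t ht (fun e => hca (by rw [e, one_smul])) ht1
        (hall m hm) ((hK g).1 g.2)])
  exact ⟨p, hp, hcardN ▸ hpc⟩

end Cfsg.Agent.Lib.LieExc
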