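import Cfsg.Agent.Lib.LieExc.Zass

/-!
Normal subgroups of Zassenhaus groups; simplicity in odd degree.
-/

set_option autoImplicit false

namespace Cfsg.Agent.Lib.LieExc

open MulAction

universe u v

variable {G : Type u} [Group G] {Ω : Type v} [MulAction G Ω] [Fintype Ω]

theorem finite_of_zass (hZ : Cfsg.IsZassenhausGroup G Ω) : Finite G := by
  haveI := hZ.1
  exact Finite.of_injective (MulAction.toPerm : G → Equiv.Perm Ω) MulAction.toPerm_injective

theorem exists_data (hZ : Cfsg.IsZassenhausGroup G Ω) :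
    ∃ a b h e H, ZDataKer (Ω := Ω) G a b h e H := by
  haveI := finite_of_zass hZ
  obtain ⟨-, -, -, ⟨g, -, a, b, hab, -, -⟩, -⟩ := id hZ
  have hpos : 0 < Fintype.card Ω := Fintype.card_pos_iff.mpr ⟨a⟩
  have D : ZData G a b (Fintype.card Ω - 1)
      (Nat.card ↥(stabilizer G a ⊓ stabilizer G b : Subgroup G)) :=
    ⟨hZ, hab, by omega, rfl⟩
  obtain ⟨H, h1, h2, h3⟩ := D.exists_kernel
  exact ⟨a, b, _, _, H, D, h1, h2, h3⟩

variable {a b : Ω} {h e : ℕ} {H : Subgroup G}

theorem ZDataKer.normal_zass [Finite G] (K : ZDataKer G a b h e H) (N : Subgroup G) [N.Normal]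
    (hN : N ≠ ⊥) : Cfsg.IsZassenhausGroup N Ω := by
  haveI := K.zass.1
  haveI := K.isPretransitive
  have hNn : N.Normal := inferInstance
  have hHN : H ≤ N := K.le_normal hNn hN
  haveI htr := K.toZData.normal_isPretransitive hNn hN
  have h2t : MulAction.IsMultiplyPretransitive N Ω 2 := by
    refine MulAction.is_two_pretransitive_iff.mpr fun {c d c' d'} hcd hcd' => ?_
    obtain ⟨g, hg⟩ := MulAction.exists_smul_eq N c a
    obtain ⟨g', hg'⟩ := MulAction.exists_smul_eq N c' a
    obtain ⟨u, hu, hud⟩ := K.exists_kernel_smul (c := g • d) (d := g' • d')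
      (fun h' => hcd (MulAction.injective g (hg.trans h'.symm)))
      (fun h' => hcd' (MulAction.injective g' (hg'.trans h'.symm)))
    let x : N := ⟨u, hHN hu⟩
    have hxa : x • a = a := K.hHa hu
    have hx : x • (g • d) = g' • d' := hud
    exact ⟨g'⁻¹ * x * g, by rw [mul_smul, mul_smul, hg, hxa, ← hg', inv_smul_smul],
      by rw [mul_smul, mul_smul, hx, inv_smul_smul]⟩
  obtain ⟨y, hyN, hyE, hy1⟩ := K.toZData.normal_inf_pair hNn hN
  obtain ⟨hya, hyb⟩ := mem_inf_stabilizer.mp hyE
  refine ⟨⟨fun {x y} hxy => Subtype.ext (FaithfulSMul.eq_of_smul_eq_smul (α := Ω) hxy)⟩, h2t,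
    fun g x y z hxy hyz hxz hx hy hz => Subtype.ext (K.three hxy hyz hxz hx hy hz),
    ⟨⟨y, hyN⟩, fun h' => hy1 (congrArg Subtype.val h'), a, b, K.hab, hya, hyb⟩,
    fun M hMn hMt => ?_⟩
  by_contra hno
  push Not at hno
  refine K.no_regular hNn hN hHN (M := M.map N.subtype) (Subgroup.map_subtype_le M) ?_ ?_ ?_
  · rintro n hn _ ⟨m, hm, rfl⟩
    exact ⟨⟨n, hn⟩ * m * ⟨n, hn⟩⁻¹, hMn.conj_mem m hm ⟨n, hn⟩, rfl⟩
  · intro c
    obtain ⟨m, hm⟩ := MulAction.exists_smul_eq M a c
    exact ⟨_, ⟨m.1, m.2, rfl⟩, hm⟩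
  · rintro _ ⟨m, hm, rfl⟩ c hc
    have h1 : (⟨m, hm⟩ : M) ∈ stabilizer M c := hc
    rw [hno c, Subgroup.mem_bot] at h1
    exact congrArg (fun z : M => ((z : N) : G)) h1

/-- In odd degree every nontrivial normal subgroup is the whole group. -/
theorem ZDataKer.normal_eq_top [Finite G] (K : ZDataKer G a b h e H) (hodd : Odd (Fintype.card Ω))
    (M : Subgroup G) (hMn : M.Normal) (hM : M ≠ ⊥) : M = ⊤ := by
  classical
  haveI := K.zass.1
  haveI := K.isPretransitive
  set E : Subgroup G := stabilizer G a ⊓ stabilizer G b with hE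
  -- the two-point stabiliser has odd order
  have hfix1 : ∀ g : G, g ≠ 1 → ∀ c d : Ω, c ≠ d → g • c = c → g • d = d → orderOf g ≠ 2 := by
    intro g hg c d hcd hc hd ho
    have hperm : (MulAction.toPerm g : Equiv.Perm Ω) ^ 2 ^ 1 = 1 := by
      rw [pow_one]
      refine Equiv.ext fun x => ?_
      rw [pow_two, Equiv.Perm.mul_apply, MulAction.toPerm_apply, MulAction.toPerm_apply,
        ← mul_smul, ← pow_two, ← ho, pow_orderOf_eq_one, one_smul, Equiv.Perm.one_apply]
    haveI : Fact (Nat.Prime 2) := ⟨Nat.prime_two⟩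
    have hmod := Equiv.Perm.card_fixedPoints_modEq (p := 2) (f := ⇑(MulAction.toPerm g : Equiv.Perm Ω))
      (n := 1) (by
        funext x
        exact congrFun (congrArg DFunLike.coe hperm) x)
    have hcard : Fintype.card (Function.fixedPoints ⇑(MulAction.toPerm g : Equiv.Perm Ω)) = 2 := by
      rw [Fintype.card_eq_nat_card]
      refine (Nat.card_congr (Equiv.setCongr (s := Function.fixedPoints _) (t := ({c, d} : Set Ω)) ?_)).trans ?_
      · ext x
        simp only [Set.mem_insert_iff, Set.mem_singleton_iff]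
        constructor
        · intro hx
          by_contra hx'
          push Not at hx'
          exact hg (K.three hcd (Ne.symm hx'.2) (Ne.symm hx'.1) hc hd hx)
        · rintro (rfl | rfl)
          · exact hc
          · exact hd
      · rw [Nat.card_coe_set_eq, Set.ncard_pair hcd]
    rw [hcard] at hmod
    rw [Nat.ModEq, Nat.odd_iff.mp hodd] at hmod
    norm_num at hmod
  have heodd : Odd (Nat.card E) := by
    rw [← Nat.not_even_iff_odd, even_iff_two_dvd]
    intro h2
    haveI : Fact (Nat.Prime 2) := ⟨Nat.prime_two⟩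
    obtain ⟨g, hg⟩ := exists_prime_orderOf_dvd_card' 2 h2
    have hgo : orderOf (g : G) = 2 := by rw [Subgroup.orderOf_coe, hg]
    refine hfix1 g ?_ a b K.hab (mem_inf_stabilizer.mp g.2).1 (mem_inf_stabilizer.mp g.2).2 hgo
    intro h1
    rw [h1, orderOf_one] at hgo
    omega
  -- an involution exchanging the two points
  obtain ⟨w', hwa, hwb⟩ := K.two_trans K.hab K.hab.symm
  obtain ⟨j, hj⟩ := heodd
  have hsq : w' ^ 2 ∈ E := by
    rw [hE, mem_inf_stabilizer, pow_two]
    simp [mul_smul, hwa, hwb]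
  have hwe : (w' ^ 2) ^ Nat.card E = 1 :=
    congrArg Subtype.val (pow_card_eq_one' (x := (⟨w' ^ 2, hsq⟩ : E)))
  set w := w' ^ Nat.card E with hwdef
  have hswap : w • a = b ∧ w • b = a := by
    have hpj := mem_inf_stabilizer.mp (pow_mem hsq j)
    rw [hwdef, show w' ^ Nat.card E = w' * (w' ^ 2) ^ j by rw [← pow_mul, hj, pow_succ'],
      mul_smul, mul_smul, hpj.1, hpj.2]
    exact ⟨hwa, hwb⟩
  have hw2 : w * w = 1 := by
    rw [hwdef, ← pow_two, ← pow_mul, mul_comm, pow_mul, hwe]
  have hw1 : w ≠ 1 := fun e => K.hab (by rw [← hswap.1, e, one_smul])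
  -- it fixes a point
  haveI : Fact (Nat.Prime 2) := ⟨Nat.prime_two⟩
  obtain ⟨c, hc⟩ : ∃ c : Ω, w • c = c := by
    obtain ⟨c, hc⟩ := Equiv.Perm.exists_fixed_point_of_prime (p := 2) (n := 1)
      (σ := (MulAction.toPerm w : Equiv.Perm Ω)) (fun h2 => by
        rw [Nat.odd_iff] at hodd; omega)
      (Equiv.ext fun x => by
        rw [pow_one, pow_two, Equiv.Perm.mul_apply, MulAction.toPerm_apply, MulAction.toPerm_apply,
          ← mul_smul, hw2, one_smul, Equiv.Perm.one_apply])
    exact ⟨c, hc⟩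
  have hHM : H ≤ M := K.le_normal hMn hM
  have hwM : w ∈ M := by
    obtain ⟨g, hg⟩ := MulAction.exists_smul_eq G a c
    have hta : (g⁻¹ * w * g) • a = a := by rw [mul_smul, mul_smul, hg, hc, ← hg, inv_smul_smul]
    have ht : g⁻¹ * w * g ∈ H := by
      refine (K.mem_iff _).mpr (Or.inr ⟨hta, fun d hd => ?_⟩)
      by_contra hda
      refine hfix1 _ ?_ a d (Ne.symm hda) hta hd ?_
      · intro h1
        refine hw1 ?_
        calc w = g * (g⁻¹ * w * g) * g⁻¹ := by group
          _ = 1 := by rw [h1]; group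
      · rw [orderOf_eq_prime_iff]
        refine ⟨?_, fun h1 => hw1 ?_⟩
        · rw [pow_two, show g⁻¹ * w * g * (g⁻¹ * w * g) = g⁻¹ * (w * w) * g by group, hw2]
          group
        · calc w = g * (g⁻¹ * w * g) * g⁻¹ := by group
            _ = 1 := by rw [h1]; group
    have h2 := hMn.conj_mem _ (hHM ht) g
    have e : g * (g⁻¹ * w * g) * g⁻¹ = w := by group
    rwa [e] at h2
  -- it inverts the two-point stabiliser
  have hwinv : w⁻¹ = w := inv_eq_of_mul_eq_one_right hw2
  have hconj : ∀ x ∈ E, w * x * w ∈ E := by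
    intro x hx
    rw [hE, mem_inf_stabilizer] at hx ⊢
    simp [mul_smul, hswap.1, hswap.2, hx.1, hx.2]
  let φ : E →* E :=
    { toFun := fun x => ⟨w * x * w, hconj x x.2⟩
      map_one' := Subtype.ext (by simp [hw2])
      map_mul' := fun x y => Subtype.ext (by
        show w * (x * y : G) * w = w * x * w * (w * y * w)
        rw [show w * (x : G) * w * (w * y * w) = w * x * (w * w) * y * w by group, hw2]
        group) }
  have hfpf : MonoidHom.FixedPointFree φ := by
    intro x hx
    have hx' : w * (x : G) * w = x := congrArg Subtype.val hx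
    obtain ⟨hxa, hxb⟩ := mem_inf_stabilizer.mp x.2
    refine Subtype.ext (K.three K.hab (z := c) ?_ ?_ hxa hxb ?_)
    · intro e
      rw [← e, hswap.2] at hc
      exact K.hab hc
    · intro e
      rw [← e, hswap.1] at hc
      exact K.hab hc.symm
    · -- the fixed point is unique
      by_contra hxc
      refine hfix1 w hw1 c ((x : G) • c) (Ne.symm hxc) hc ?_ ?_
      · calc w • (x : G) • c = (w * x * w) • w⁻¹ • c := by
              rw [← mul_smul, ← mul_smul]; group
          _ = (x : G) • c := by rw [hx', hwinv, hc]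
      · rw [orderOf_eq_prime_iff]
        exact ⟨by rw [pow_two, hw2], hw1⟩
  have hinvol : Function.Involutive φ := fun x => Subtype.ext (by
    show w * (w * (x : G) * w) * w = x
    rw [show w * (w * (x : G) * w) * w = (w * w) * x * (w * w) by group, hw2]
    group)
  have hφ := hfpf.coe_eq_inv_of_involutive hinvol
  have hEM : E ≤ M := by
    intro x hx
    have e1 : w * x * w = x⁻¹ := congrArg Subtype.val (congrFun hφ ⟨x, hx⟩)
    have h2 : x * x ∈ M := by
      have h3 : x * w * x⁻¹ * w ∈ M := mul_mem (hMn.conj_mem w hwM x) hwM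
      have e2 : x * w * x⁻¹ * w = x * x := by
        rw [← e1, show x * w * (w * x * w) * w = x * (w * w) * x * (w * w) by group, hw2]
        group
      rwa [e2] at h3
    have e3 : x = (x * x) ^ (j + 1) := by
      have h4 : x ^ Nat.card E = 1 := congrArg Subtype.val (pow_card_eq_one' (x := (⟨x, hx⟩ : E)))
      rw [← pow_two, ← pow_mul, show 2 * (j + 1) = Nat.card E + 1 by omega, pow_succ, h4, one_mul]
    rw [e3]
    exact pow_mem h2 _
  haveI := K.toZData.normal_isPretransitive hMn hM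
  refine eq_top_iff.mpr fun g _ => ?_
  obtain ⟨m, hm⟩ := MulAction.exists_smul_eq M a (g • a)
  have hxa : ((m : G)⁻¹ * g) • a = a := by
    rw [mul_smul, inv_smul_eq_iff]; exact hm.symm
  have hxb : ((m : G)⁻¹ * g) • b ≠ a := fun e =>
    K.hab (MulAction.injective _ (hxa.trans e.symm))
  obtain ⟨u, hu, hub⟩ := K.exists_kernel_smul K.hab.symm hxb
  have hy : u⁻¹ * ((m : G)⁻¹ * g) ∈ E := by
    refine mem_inf_stabilizer.mpr ⟨?_, ?_⟩
    · rw [mul_smul, hxa, inv_smul_eq_iff]
      exact (show u • a = a from K.hHa hu).symm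
    · rw [mul_smul, ← hub, inv_smul_smul]
  have h5 := mul_mem (mul_mem m.2 (hHM hu)) (hEM hy)
  rwa [mul_assoc, mul_inv_cancel_left, mul_inv_cancel_left] at h5

theorem isSimpleGroup_of_odd (hZ : Cfsg.IsZassenhausGroup G Ω) (hodd : Odd (Fintype.card Ω)) :
    IsSimpleGroup G := by
  haveI := finite_of_zass hZ
  obtain ⟨a, b, h, e, H, K⟩ := exists_data hZ
  obtain ⟨g, hg, -⟩ := hZ.2.2.2.1
  haveI : Nontrivial G := ⟨g, 1, hg⟩
  exact ⟨fun M hM => or_iff_not_imp_left.mpr fun h' => K.normal_eq_top hodd M hM h'⟩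

theorem normal_isZassenhaus (hZ : Cfsg.IsZassenhausGroup G Ω) (N : Subgroup G) [N.Normal]
    (hN : N ≠ ⊥) : Cfsg.IsZassenhausGroup N Ω := by
  haveI := finite_of_zass hZ
  obtain ⟨a, b, h, e, H, K⟩ := exists_data hZ
  exact K.normal_zass N hN

end Cfsg.Agent.Lib.LieExc
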